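import Groth.Agent.CBC.Setup
import Groth.Agent.CBC.NoethThms
import Groth.Agent.S0002
import Groth.Prelude.Def_FlatMod2

/-!
Cohomology of coherent modules on a proper scheme over a field commutes with field extensions.
-/

universe u

open CategoryTheory Limits Opposite TopologicalSpace AlgebraicGeometry Function TensorProduct

set_option autoImplicit false
set_option linter.style.haveILetI false

noncomputable section

namespace Groth.Agent.CMReg

open Groth.Agent.CBC

theorem isFlatOver_field {X : Scheme.{u}} {k : Type u} [Field k] (f : X ⟶ Spec (CommRingCat.of k))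
    (M : X.Modules) : FlatMod.IsFlatOver f M := by
  intro x
  have hf : IsField ((Spec (CommRingCat.of k)).presheaf.stalk (f.base x)) := by
    let z := f.base x
    have hz : z.asIdeal = ⊥ := (Ideal.eq_bot_or_top (K := k) z.asIdeal).resolve_right z.isPrime.ne_top
    refine MulEquiv.isField ?_ (StructureSheaf.stalkIso (CommRingCat.of k) z).symm.toMulEquiv
    exact MulEquiv.isField (Field.toIsField k) (IsLocalization.atUnits k (S := Localization.AtPrime z.asIdeal)
      z.asIdeal.primeCompl fun a ha => isUnit_iff_ne_zero.2 fun h => ha (h ▸ zero_mem _)).symm.toMulEquiv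
  show @Module.Flat ((Spec (CommRingCat.of k)).presheaf.stalk (f.base x)) (M.presheaf.stalk x) _ _
    (FlatMod.moduleStalkOver f M x)
  letI := FlatMod.moduleStalkOver f M x
  letI := hf.toField
  exact Module.Flat.of_free

variable {X X' : Scheme.{u}} {k : Type u} [Field k] {f : X ⟶ Spec (CommRingCat.of k)}

theorem finrank_eq_ker [IsSeparated f] {V : (Spec (CommRingCat.of k)).Opens} (hV : IsAffineOpen V) (D : Model f V)
    (F : X.Modules) [F.IsQuasicoherent] {i : ℕ} (w : (D.K F).Win i)
    {R : Type u} [Field R] [Algebra Γ(Spec (CommRingCat.of k), V) R]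
    (g : Spec (CommRingCat.of R) ⟶ Spec (CommRingCat.of k)) (p : X' ⟶ X) (q : X' ⟶ Spec (CommRingCat.of R))
    (H : IsPullback p q f g) (hT : ⊤ ≤ g ⁻¹ᵁ V)
    (halg : ∀ a, g.appLE V ⊤ hT a =
      (Scheme.ΓSpecIso (CommRingCat.of R)).inv (algebraMap Γ(Spec (CommRingCat.of k), V) R a)) :
    letI : X'.Over (Spec (CommRingCat.of R)) := ⟨q⟩
    Module.finrank R (Coh.HH X' ((Scheme.Modules.pullback p).obj F) i) =
      Module.finrank R (LinearMap.ker (w.u.baseChange R)) := by
  letI : X'.Over (Spec (CommRingCat.of R)) := ⟨q⟩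
  let e : Coh.HH X' ((Scheme.Modules.pullback p).obj F) i ≃ₗ[R] LinearMap.ker (w.u.baseChange R) :=
    { ((ringEquiv g p q hV D F H hT halg i).symm.trans (w.eAlg R).toAddEquiv) with
      map_smul' := fun r x => by
        refine Subtype.ext ?_
        obtain ⟨z, rfl⟩ := (ringEquiv g p q hV D F H hT halg i).surjective x
        change (w.eAlg R ((ringEquiv g p q hV D F H hT halg i).symm
            (Coh.toGlobal q r • ringEquiv g p q hV D F H hT halg i z))).1 =
          r • (w.eAlg R ((ringEquiv g p q hV D F H hT halg i).symm (ringEquiv g p q hV D F H hT halg i z))).1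
        rw [← ringEquiv_smul g p q hV D F H hT halg i r z, AddEquiv.symm_apply_apply, AddEquiv.symm_apply_apply]
        exact w.eAlg_smul R r z }
  exact e.finrank_eq

/-- `dim_K H^i(X_K, F_K) = dim_k H^i(X, F)`. -/
theorem finrank_baseChange {K : Type u} [Field K] [Algebra k K] [IsProper f] (p : X' ⟶ X)
    (q : X' ⟶ Spec (CommRingCat.of K))
    (H : IsPullback p q f (Spec.map (CommRingCat.ofHom (algebraMap k K))))
    (F : X.Modules) (hF : Coh.IsCoh F) (i : ℕ) :
    letI : X.Over (Spec (CommRingCat.of k)) := ⟨f⟩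
    letI : X'.Over (Spec (CommRingCat.of K)) := ⟨q⟩
    Module.finrank K (Coh.HH X' ((Scheme.Modules.pullback p).obj F) i) =
      Module.finrank k (Coh.HH X F i) := by
  letI : X.Over (Spec (CommRingCat.of k)) := ⟨f⟩
  letI : X'.Over (Spec (CommRingCat.of K)) := ⟨q⟩
  have := hF.1
  let A := Γ(Spec (CommRingCat.of k), ⊤)
  let ψ : A →+* k := (Scheme.ΓSpecIso (CommRingCat.of k)).hom.hom
  letI : Algebra A k := ψ.toAlgebra
  letI : Algebra A K := ((algebraMap k K).comp ψ).toAlgebra
  have : IsScalarTower A k K := IsScalarTower.of_algebraMap_eq' rfl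
  have hA : IsNoetherianRing A :=
    isNoetherianRing_of_ringEquiv k (Scheme.ΓSpecIso (CommRingCat.of k)).commRingCatIsoToRingEquiv.symm
  obtain ⟨D⟩ := nonempty_model f (isAffineOpen_top (Spec (CommRingCat.of k)))
  obtain ⟨w⟩ := nonempty_win (isAffineOpen_top _) D F hF (isFlatOver_field f F)
    (fun A _ _ Z _ _ M hM n => Groth.Agent.S0002.result A Z M hM n) i
  have e1 := finrank_eq_ker (isAffineOpen_top _) D F w (Spec.map (CommRingCat.ofHom (algebraMap k K))) p q H le_top
    (fun a => by
      refine Eq.trans (congr($((Scheme.Hom.app_eq_appLE (Spec.map (CommRingCat.ofHom (algebraMap k K)))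
        (U := ⊤)).symm) a)) ?_
      exact (congrArg _ ((Scheme.ΓSpecIso (CommRingCat.of k)).hom_inv_id_apply a).symm).trans
        congr($((Scheme.ΓSpecIso_inv_naturality (CommRingCat.ofHom (algebraMap k K))).symm) (ψ a)))
  have H1 : IsPullback (𝟙 X) f f (𝟙 (Spec (CommRingCat.of k))) := IsPullback.of_horiz_isIso ⟨by simp⟩
  have e2 := finrank_eq_ker (isAffineOpen_top _) D F w (𝟙 _) (𝟙 X) f H1 le_top (fun a => by
    simp [Scheme.Hom.appLE]
    exact ((Scheme.ΓSpecIso (CommRingCat.of k)).hom_inv_id_apply a).symm)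
  have := w.fp
  rw [e1, finrank_kerBC_ext w.u k, ← e2]
  exact LinearEquiv.finrank_eq (LinearEquiv.ofBijective
    (CohLin.overLin k (CohLin.hMap ((Scheme.Modules.pullbackId X).app F).hom i))
    (CohLin.hIso ((Scheme.Modules.pullbackId X).app F) i).bijective)

/-- vanishing descends and ascends along field extensions -/
theorem subsingleton_baseChange_iff {K : Type u} [Field K] [Algebra k K] [IsProper f] (p : X' ⟶ X)
    (q : X' ⟶ Spec (CommRingCat.of K))
    (H : IsPullback p q f (Spec.map (CommRingCat.ofHom (algebraMap k K))))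
    (F : X.Modules) (hF : Coh.IsCoh F) (i : ℕ) :
    Subsingleton (Coh.HH X' ((Scheme.Modules.pullback p).obj F) i) ↔ Subsingleton (Coh.HH X F i) := by
  letI : X.Over (Spec (CommRingCat.of k)) := ⟨f⟩
  letI : X'.Over (Spec (CommRingCat.of K)) := ⟨q⟩
  have : IsProper (X ↘ Spec (CommRingCat.of k)) := ‹IsProper f›
  have : IsProper (X' ↘ Spec (CommRingCat.of K)) :=
    (MorphismProperty.of_isPullback H ‹IsProper f› : IsProper q)
  have h1 : Module.Finite k (Coh.HH X F i) := Groth.Agent.S0002.result k X F hF i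
  have h2 : Module.Finite K (Coh.HH X' ((Scheme.Modules.pullback p).obj F) i) :=
    Groth.Agent.S0002.result K X' _ (ZClosLib.CohDescent.isCoh_pullback p F hF) i
  rw [← Module.finrank_zero_iff (R := K), ← Module.finrank_zero_iff (R := k), finrank_baseChange p q H F hF i]

end Groth.Agent.CMReg
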