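import Groth.Agent.ProjTwist.Pn.Extension
import Groth.Agent.ProperFin.FinEx
import Groth.Agent.ProperFin.FiniteMap
import Groth.Agent.ChgRings.Basic
import Groth.Prelude.Def_Pic13
import Groth.Prelude.Def_FrameBundle
import Groth.Prelude.Def_Curv2

/-!
Cohomology and twists along a closed immersion into `P^n_k`.
-/

set_option autoImplicit false

open CategoryTheory CategoryTheory.Limits AlgebraicGeometry TopologicalSpace Opposite

universe u

noncomputable section

namespace Groth.Agent.CMReg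

open Groth.Agent.CohAff Groth.Agent.ProjTwist.Pn

theorem addEquivOfKer_apply {A B C : Type*} [AddCommGroup A] [AddCommGroup B] [AddCommGroup C]
    (f : A →+ B) (g : A →+ C) (hf : Function.Surjective f) (hg : Function.Surjective g)
    (h : ∀ a, f a = 0 ↔ g a = 0) (a : A) : addEquivOfKer f g hf hg h (f a) = g a := by
  have e : (QuotientAddGroup.quotientKerEquivOfSurjective f hf).symm (f a) = (a : A ⧸ f.ker) :=
    (QuotientAddGroup.quotientKerEquivOfSurjective f hf).symm_apply_eq.2 rfl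
  simp only [addEquivOfKer, AddEquiv.trans_apply, e]
  rfl

variable {X Y : Scheme.{u}} (f : X ⟶ Y) [IsAffineHom f]

/-- `H^q(Y, f_* M) ≃ H^q(X, M)` for affine `f` and quasi-coherent `M`. -/
def pushEquiv (M : X.Modules) [Coh.IsQCoh M] (q : ℕ) :
    Coh.HH Y ((Coh.push f).obj M) q ≃+ Coh.HH X M q :=
  have : ((FRes.ofMod M).Z 0).IsQuasicoherent := ‹Coh.IsQCoh M›
  let R := FRes.ofMod M
  addEquivOfKer ((R.pushAff f).clsTop q) (R.clsTop q : Γ(R.Z q, ⊤) →+ Coh.HH X (R.Z 0) q)
    ((R.pushAff f).clsTop_surjective q) (R.clsTop_surjective q)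
    (fun z => ((R.pushAff f).clsTop_eq_zero_iff q z).trans
      ((R.ex_pushAff_iff f q ⊤ z).trans (R.clsTop_eq_zero_iff q z).symm))

theorem pushEquiv_smul {A : Type u} [CommRing A] [X.Over (Spec (CommRingCat.of A))]
    [Y.Over (Spec (CommRingCat.of A))]
    (w : f ≫ (Y ↘ Spec (CommRingCat.of A)) = X ↘ Spec (CommRingCat.of A))
    (M : X.Modules) [Coh.IsQCoh M] (q : ℕ) (a : A) (x : Coh.HH Y ((Coh.push f).obj M) q) :
    pushEquiv f M q (a • x) = a • pushEquiv f M q x := by
  have : ((FRes.ofMod M).Z 0).IsQuasicoherent := ‹Coh.IsQCoh M›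
  let R := FRes.ofMod M
  obtain ⟨z, rfl⟩ := (R.pushAff f).clsTop_surjective q x
  have e : ∀ z : Γ(R.Z q, ⊤), pushEquiv f M q ((R.pushAff f).clsTop q z) = R.clsTop q z :=
    fun z => addEquivOfKer_apply ((R.pushAff f).clsTop q)
      (R.clsTop q : Γ(R.Z q, ⊤) →+ Coh.HH X (R.Z 0) q)
      ((R.pushAff f).clsTop_surjective q) (R.clsTop_surjective q)
      (fun z => ((R.pushAff f).clsTop_eq_zero_iff q z).trans
        ((R.ex_pushAff_iff f q ⊤ z).trans (R.clsTop_eq_zero_iff q z).symm)) z
  let z' : Γ(R.Z q, ⊤) := z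
  let r : Γ(X, ⊤) := ProperFin.glob A X a
  have h1 : a • (R.pushAff f).clsTop q z = (R.pushAff f).clsTop q
      (show Γ(R.Z q, ⊤) from r • z') := by
    refine (((R.pushAff f).clsTop_smul q _ z).symm).trans (congrArg ((R.pushAff f).clsTop q) ?_)
    refine (ProperFin.push_smul' f (R.Z q) _ z).trans ?_
    exact congrArg (fun t : Γ(X, ⊤) => t • z') (ProperFin.toGlobal_comp f w a)
  exact (congrArg _ h1).trans
    ((e (r • z')).trans ((R.clsTop_smul q _ z').trans (congrArg (fun x => a • x) (e z').symm)))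

theorem subsingleton_push_iff (M : X.Modules) [Coh.IsQCoh M] (q : ℕ) :
    Subsingleton (Coh.HH Y ((Coh.push f).obj M) q) ↔ Subsingleton (Coh.HH X M q) :=
  (pushEquiv f M q).toEquiv.subsingleton_congr

variable {k : Type u} [Field k] {n : ℕ} {Z : Scheme.{u}} (i : Z ⟶ CohB1.ProjSpace n k)
  [IsClosedImmersion i]

/-- `(i_* F)(d) ≅ i_*(F(d))` -/
def pushTwistIso (F : Z.Modules) (d : ℤ) :
    twF ((Coh.push i).obj F) d ≅ (Coh.push i).obj (Pic13.twistOn k i F d) :=
  ProjTwist.tensComm _ _ ≪≫ (ChgRings.projIso i F).app (Twist.twistProjSpace n k d) ≪≫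
    (Scheme.Modules.pushforward i).mapIso (ProjTwist.tensComm _ _)

theorem isQCoh_push (F : Z.Modules) [Coh.IsQCoh F] : Coh.IsQCoh ((Coh.push i).obj F) :=
  have : F.IsQuasicoherent := ‹Coh.IsQCoh F›
  QCoh.isQuasicoherent_pushforward i F

theorem isQCoh_twistOn (F : Z.Modules) [Coh.IsQCoh F] (d : ℤ) : Coh.IsQCoh (Pic13.twistOn k i F d) := by
  have : F.IsQuasicoherent := ‹Coh.IsQCoh F›
  have : Coh.IsQCoh (Twist.twistProjSpace n k d) := ProjTwist.isQCoh_twistProjSpace n k d
  have : (Twist.twistProjSpace n k d).IsQuasicoherent := this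
  exact LimTop.TensorQC.isQuasicoherent_tensM F _

theorem subsingleton_twistOn_iff (F : Z.Modules) [Coh.IsQCoh F] (d : ℤ) (q : ℕ) :
    Subsingleton (Coh.HH Z (Pic13.twistOn k i F d) q) ↔
      Subsingleton (Coh.HH (CohB1.ProjSpace n k) (twF ((Coh.push i).obj F) d) q) := by
  have := isQCoh_twistOn i F d
  rw [← subsingleton_push_iff i]
  exact ⟨fun h => subsingleton_of_iso (pushTwistIso i F d).symm q,
    fun h => subsingleton_of_iso (pushTwistIso i F d) q⟩

theorem isMRegular_push {F : Z.Modules} [Coh.IsQCoh F] {m : ℤ} (h : Pic13.IsMRegular k i F m) :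
    Curv2.IsMRegular k n ((Coh.push i).obj F) m :=
  fun q hq _ => (subsingleton_twistOn_iff i F (m - q) q).1 (h q hq)

theorem isMRegular_of_push {F : Z.Modules} [Coh.IsQCoh F] {m : ℤ}
    (h : Curv2.IsMRegular k n ((Coh.push i).obj F) m) : Pic13.IsMRegular k i F m :=
  fun q hq => (subsingleton_twistOn_iff i F (m - q) q).2
    (subsingleton_of_isMRegular (isQCoh_push i F) h hq rfl)

theorem finrank_twistOn [Z.Over (Spec (CommRingCat.of k))]
    (hi : i ≫ CohB1.ProjSpace.toSpec n k = Z ↘ Spec (CommRingCat.of k))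
    (F : Z.Modules) [Coh.IsQCoh F] (d : ℤ) (q : ℕ) :
    Module.finrank k (Coh.HH Z (Pic13.twistOn k i F d) q) =
      Module.finrank k (Coh.HH (CohB1.ProjSpace n k) (twF ((Coh.push i).obj F) d) q) := by
  have := isQCoh_twistOn i F d
  refine Eq.trans ?_ (finrank_iso (pushTwistIso i F d).symm q)
  exact (LinearEquiv.finrank_eq ((pushEquiv i (Pic13.twistOn k i F d) q).toLinearEquiv
    (pushEquiv_smul i hi _ q))).symm

/-- The inverse image of a globally generated module is globally generated. -/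
theorem isGloballyGenerated_pullback {X Y : Scheme.{u}} (g : X ⟶ Y) {G : Y.Modules}
    (h : Curv2.IsGloballyGenerated G) : Curv2.IsGloballyGenerated ((Scheme.Modules.pullback g).obj G) := by
  obtain ⟨ι, p, hp⟩ := h
  let e : (Scheme.Modules.pullback g).obj (SheafOfModules.free ι : Y.Modules) ≅
      (SheafOfModules.free ι : X.Modules) :=
    (PreservesCoproduct.iso (Scheme.Modules.pullback g) fun _ : ι => Coh.structureModule Y) ≪≫
      Sigma.mapIso fun _ => PicLoc.pullbackStructureIso g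
  have := (Scheme.Modules.pullbackPushforwardAdjunction g).isLeftAdjoint
  have hq := @Functor.map_epi _ _ _ _ (Scheme.Modules.pullback g) _ _ _ p hp
  exact ⟨ι, e.inv ≫ (Scheme.Modules.pullback g).map p, @epi_comp _ _ _ _ _ e.inv inferInstance _ hq⟩

theorem isGloballyGenerated_iso {X : Scheme.{u}} {F G : X.Modules} (e : F ≅ G)
    (h : Curv2.IsGloballyGenerated F) : Curv2.IsGloballyGenerated G := by
  obtain ⟨ι, p, hp⟩ := h
  exact ⟨ι, p ≫ e.hom, @epi_comp _ _ _ _ _ p hp e.hom inferInstance⟩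

theorem isGloballyGenerated_twistOn (F : Z.Modules) (d : ℤ)
    (h : Curv2.IsGloballyGenerated (twF ((Coh.push i).obj F) d)) :
    Curv2.IsGloballyGenerated (Pic13.twistOn k i F d) :=
  isGloballyGenerated_iso
    ((Scheme.Modules.pullback i).mapIso (pushTwistIso i F d) ≪≫
      @asIso _ _ _ _ _ (Props.KilledSub.isIso_counit i (Pic13.twistOn k i F d)))
    (isGloballyGenerated_pullback i h)

end Groth.Agent.CMReg
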