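import Mathlib.Algebra.BigOperators.Group.Finset.Basic
import Mathlib.Algebra.Module.Basic
import Mathlib.Data.Fintype.Basic
import Mathlib.Tactic

/-!
The Koszul differential of a family of commuting maps, and its exactness when one of the maps is bijective.
-/

set_option autoImplicit false

universe u v

noncomputable section

namespace Groth.Agent.CMReg

variable {ι : Type v} [LinearOrder ι] [Fintype ι]

/-- The sign of inserting `j` in `S`. -/
def ksgn (j : ι) (S : Finset ι) : ℤ := (-1) ^ (S.filter (fun s => s < j)).card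

theorem ksgn_mul_self (j : ι) (S : Finset ι) : ksgn j S * ksgn j S = 1 := by
  rw [ksgn, ← mul_pow]; norm_num

theorem ksgn_insert {j k : ι} {S : Finset ι} (hj : j ∉ S) :
    ksgn k (insert j S) = (if j < k then -1 else 1) * ksgn k S := by
  unfold ksgn
  rw [Finset.filter_insert]
  split_ifs with h
  · rw [Finset.card_insert_of_notMem (fun h' => hj (Finset.mem_filter.1 h').1), pow_succ]
    ring
  · rw [one_mul]

theorem ksgn_swap {j k : ι} {S : Finset ι} (hj : j ∉ S) (hk : k ∉ S) (hjk : j ≠ k) :
    ksgn j S * ksgn k (insert j S) = -(ksgn k S * ksgn j (insert k S)) := by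
  rw [ksgn_insert hj, ksgn_insert hk]
  rcases lt_or_gt_of_ne hjk with h | h
  · rw [if_pos h, if_neg (not_lt.2 h.le)]; ring
  · rw [if_pos h, if_neg (not_lt.2 h.le)]; ring

variable {A B C : Type u} [AddCommGroup A] [AddCommGroup B] [AddCommGroup C]

/-- The Koszul differential. -/
def kd (μ : ι → A →+ B) (a : Finset ι → A) (S : Finset ι) : B :=
  ∑ j ∈ Sᶜ, ksgn j S • μ j (a (insert j S))

theorem kd_add (μ : ι → A →+ B) (a a' : Finset ι → A) (S : Finset ι) :
    kd μ (a + a') S = kd μ a S + kd μ a' S := by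
  simp only [kd, Pi.add_apply, map_add, smul_add, Finset.sum_add_distrib]

theorem kd_sub (μ : ι → A →+ B) (a a' : Finset ι → A) (S : Finset ι) :
    kd μ (a - a') S = kd μ a S - kd μ a' S := by
  simp only [kd, Pi.sub_apply, map_sub, smul_sub, Finset.sum_sub_distrib]

theorem kd_map {A' B' : Type u} [AddCommGroup A'] [AddCommGroup B'] (μ : ι → A →+ B) (μ' : ι → A' →+ B')
    (f : A →+ A') (g : B →+ B') (h : ∀ j a, g (μ j a) = μ' j (f a)) (a : Finset ι → A) (S : Finset ι) :
    g (kd μ a S) = kd μ' (fun T => f (a T)) S := by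
  simp only [kd, map_sum, map_zsmul, h]

theorem kd_supp (μ : ι → A →+ B) {a : Finset ι → A} {p : ℕ} (ha : ∀ S : Finset ι, S.card ≠ p + 1 → a S = 0)
    (S : Finset ι) (hS : S.card ≠ p) : kd μ a S = 0 := by
  refine Finset.sum_eq_zero fun j hj => ?_
  rw [ha _ (by rw [Finset.card_insert_of_notMem (Finset.mem_compl.1 hj)]; omega), map_zero, smul_zero]

theorem kd_kd (μ : ι → A →+ B) (ν : ι → B →+ C) (hc : ∀ j k a, ν k (μ j a) = ν j (μ k a))
    (a : Finset ι → A) (S : Finset ι) : kd ν (kd μ a) S = 0 := by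
  simp only [kd, map_sum, map_zsmul, Finset.smul_sum, smul_smul]
  rw [Finset.sum_sigma']
  refine Finset.sum_involution (fun x _ => ⟨x.2, x.1⟩) ?_ ?_ ?_ (fun x _ => rfl)
  · rintro ⟨j, k⟩ hx
    simp only [Finset.mem_sigma, Finset.mem_compl, Finset.mem_insert, not_or] at hx
    obtain ⟨hj, hkj, hk⟩ := hx
    rw [Finset.insert_comm j k, hc k j, ksgn_swap hj hk (Ne.symm hkj), neg_smul, neg_add_cancel]
  · rintro ⟨j, k⟩ hx _ heq
    simp only [Finset.mem_sigma, Finset.mem_compl, Finset.mem_insert, not_or] at hx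
    exact hx.2.1 (congrArg Sigma.fst heq)
  · rintro ⟨j, k⟩ hx
    simp only [Finset.mem_sigma, Finset.mem_compl, Finset.mem_insert, not_or] at hx ⊢
    exact ⟨hx.2.2, Ne.symm hx.2.1, hx.1⟩

theorem exists_kd_eq (μ : ι → A →+ B) (ν : ι → B →+ C) (hc : ∀ j k a, ν k (μ j a) = ν j (μ k a)) (e : ι)
    (hμ : Function.Bijective (μ e)) (hν : Function.Injective (ν e)) (b : Finset ι → B)
    (hb : ∀ S, kd ν b S = 0) (p : ℕ) (hsupp : ∀ S : Finset ι, S.card ≠ p → b S = 0) :
    ∃ a : Finset ι → A, (∀ S : Finset ι, S.card ≠ p + 1 → a S = 0) ∧ ∀ S, kd μ a S = b S := by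
  choose inv hinv using hμ.2
  refine ⟨fun S => if e ∈ S then ksgn e (S.erase e) • inv (b (S.erase e)) else 0, fun S hS => ?_,
    fun S => ?_⟩
  · dsimp only
    split_ifs with he
    · have hc' : (S.erase e).card ≠ p := by
        have := Finset.card_erase_add_one he
        omega
      have : inv (b (S.erase e)) = 0 := hμ.1 (by rw [hinv, hsupp _ hc', map_zero])
      rw [this, smul_zero]
    · rfl
  · by_cases he : e ∈ S
    · refine hν ?_
      obtain ⟨T, hT, rfl⟩ : ∃ T, e ∉ T ∧ insert e T = S :=
        ⟨S.erase e, Finset.notMem_erase _ _, Finset.insert_erase he⟩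
      have hcompl : Tᶜ = insert e (insert e T)ᶜ := by
        ext j; simp only [Finset.mem_compl, Finset.mem_insert]; by_cases hje : j = e <;> simp [hje, hT]
      have h0 := hb T
      rw [kd, hcompl, Finset.sum_insert (by simp), add_eq_zero_iff_eq_neg] at h0
      have h1 : ν e (b (insert e T)) =
          ksgn e T • -∑ j ∈ (insert e T)ᶜ, ksgn j T • ν j (b (insert j T)) := by
        rw [← h0, smul_smul, ksgn_mul_self, one_smul]
      rw [h1, ← Finset.sum_neg_distrib, Finset.smul_sum, kd, map_sum]
      refine Finset.sum_congr rfl fun j hj => ?_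
      simp only [Finset.mem_compl, Finset.mem_insert, not_or] at hj
      have e1 : (insert j (insert e T)).erase e = insert j T := by
        rw [Finset.insert_comm, Finset.erase_insert]
        simp [Ne.symm hj.1, hT]
      rw [if_pos (by simp), e1, map_zsmul, map_zsmul, map_zsmul, smul_smul, hc j e, hinv,
        smul_neg, smul_smul, ← neg_smul]
      congr 1
      rw [ksgn_insert hT, ksgn_insert hj.2]
      rcases lt_or_gt_of_ne hj.1 with h | h
      · rw [if_neg (not_lt.2 h.le), if_pos h]; ring
      · rw [if_pos h, if_neg (not_lt.2 h.le)]; ring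
    · rw [kd, Finset.sum_eq_single e]
      · rw [if_pos (by simp), Finset.erase_insert he, map_zsmul, smul_smul, ksgn_mul_self, one_smul, hinv]
      · intro j _ hje
        rw [if_neg (by simp [Ne.symm hje, he]), map_zero, smul_zero]
      · intro h; exact absurd (Finset.mem_compl.2 he) h

end Groth.Agent.CMReg
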