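import Groth.Agent.CMReg.MulX
import Groth.Agent.CMReg.Comb
import Groth.Agent.ProjTwist.Pn.Coh

/-!
The Koszul complex on Čech cochains of the twists, and propagation of vanishing of cohomology.
-/

set_option autoImplicit false

open CategoryTheory CategoryTheory.Limits AlgebraicGeometry TopologicalSpace Opposite

universe u

noncomputable section

namespace Groth.Agent.CMReg

open Twist Groth.Agent.ProjTwist Groth.Agent.ProjTwist.Pn CohAff

variable {n : ℕ} {R : Type u} [CommRing R] (F : (CohB1.ProjSpace n R).Modules)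

/-- The sheaf of abelian groups underlying `F(d)`. -/
abbrev shF (d : ℤ) : AbSh (CohB1.ProjSpace n R).toPresheafedSpace.carrier := Coh.toAb (twF F d)

/-- Čech cochains of `F(d)`. -/
abbrev Coch (d : ℤ) (q : ℕ) : Type u := Cochain (shF F d).obj (cov n R) q

/-- The Čech differential. -/
abbrev dC (d : ℤ) (q : ℕ) : Coch F d q →+ Coch F d (q + 1) := cd (shF F d).obj (cov n R) q

/-- Multiplication by `x_j` on cochains. -/
def muC (q : ℕ) {d e : ℤ} (h : d + 1 = e) (j : Fin (n + 1)) : Coch F d q →+ Coch F e q :=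
  cmap ((SheafOfModules.toSheaf _).map (mu F j h)).hom (cov n R) q

theorem muC_apply (q : ℕ) {d e : ℤ} (h : d + 1 = e) (j : Fin (n + 1)) (c : Coch F d q)
    (x : Fin (q + 1) → ULift.{u} (Fin (n + 1))) :
    muC F q h j c x = (mu F j h).app (inter (cov n R) x) (c x) := rfl

theorem dC_muC (q : ℕ) {d e : ℤ} (h : d + 1 = e) (j : Fin (n + 1)) (c : Coch F d q) :
    dC F e q (muC F q h j c) = muC F (q + 1) h j (dC F d q c) :=
  cd_cmap ((SheafOfModules.toSheaf _).map (mu F j h)).hom (cov n R) q c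

theorem muC_comm (q : ℕ) {d e l : ℤ} (h : d + 1 = e) (h' : e + 1 = l) (j k : Fin (n + 1)) (c : Coch F d q) :
    muC F q h' k (muC F q h j c) = muC F q h' j (muC F q h k c) := by
  funext x
  rw [muC_apply, muC_apply, muC_apply, muC_apply]
  exact congrArg (fun φ : twF F d ⟶ twF F l => φ.app (inter (cov n R) x) (c x)) (mu_comm F j k h h' h h')

theorem exists_koszul (q : ℕ) {d e l : ℤ} (h : d + 1 = e) (h' : e + 1 = l)
    (b : Finset (Fin (n + 1)) → Coch F e q) (hb : ∀ S, kd (muC F q h') b S = 0) (p : ℕ)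
    (hsupp : ∀ S : Finset (Fin (n + 1)), S.card ≠ p → b S = 0) :
    ∃ a : Finset (Fin (n + 1)) → Coch F d q, (∀ S : Finset (Fin (n + 1)), S.card ≠ p + 1 → a S = 0) ∧
      ∀ S, kd (muC F q h) a S = b S := by
  have key : ∀ (x : Fin (q + 1) → ULift.{u} (Fin (n + 1))),
      ∃ a : Finset (Fin (n + 1)) → Γ(twF F d, inter (cov n R) x),
        (∀ S : Finset (Fin (n + 1)), S.card ≠ p + 1 → a S = 0) ∧
          ∀ S, kd (fun j => ((mu F j h).app (inter (cov n R) x)).hom) a S = b S x := by
    intro x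
    refine exists_kd_eq (fun j => ((mu F j h).app (inter (cov n R) x)).hom)
      (fun j => ((mu F j h').app (inter (cov n R) x)).hom) (fun j k a => ?_) (x 0).down
      (mu_bijective F _ h (inter_le (cov n R) x 0)) (mu_bijective F _ h' (inter_le (cov n R) x 0)).1
      (fun S => b S x) (fun S => ?_) p (fun S hS => congrFun (hsupp S hS) x)
    · exact congrArg (fun φ : twF F d ⟶ twF F l => φ.app (inter (cov n R) x) a) (mu_comm F j k h h' h h')
    · exact (kd_map (muC F q h') (fun j => ((mu F j h').app (inter (cov n R) x)).hom)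
        (Pi.evalAddMonoidHom _ x) (Pi.evalAddMonoidHom _ x) (fun _ _ => rfl) b S).symm.trans (congrFun (hb S) x)
  choose a ha1 ha2 using key
  refine ⟨fun S x => a x S, fun S hS => funext fun x => ha1 x S hS, fun S => funext fun x => ?_⟩
  exact (kd_map (muC F q h) (fun j => ((mu F j h).app (inter (cov n R) x)).hom)
    (Pi.evalAddMonoidHom _ x) (Pi.evalAddMonoidHom _ x) (fun _ _ => rfl) (fun S x => a x S) S).trans (ha2 x S)

theorem exists_dC_eq (hF : Coh.IsQCoh F) {d : ℤ} {q : ℕ} {c : Coch F d (q + 1)}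
    (hc : dC F d (q + 1) c = 0) (hH : Subsingleton (Coh.HH (CohB1.ProjSpace n R) (twF F d) (q + 1))) :
    ∃ t, dC F d q t = c := by
  have : Coh.IsQCoh (twF F d) := isQCoh_tw F hF d
  exact exists_cd_eq_of_toH_eq_zero iSup_cov (fun x => affCov_mem_inter x) (good_affCov (twF F d)) hc
    (hH.elim _ _)

/-- The descending induction through the Koszul complex. -/
theorem descend (hF : Coh.IsQCoh F) : ∀ (k p : ℕ), n + 1 ≤ p + k → ∀ (q : ℕ) (d e : ℤ) (h : d + 1 = e)
    (b : Finset (Fin (n + 1)) → Coch F d (q + 1)),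
    (∀ S : Finset (Fin (n + 1)), S.card ≠ p + 1 → b S = 0) →
    (∀ S, dC F e (q + 1) (kd (muC F (q + 1) h) b S) = 0) →
    (∀ j : ℕ, Subsingleton (Coh.HH (CohB1.ProjSpace n R) (twF F (d - j)) (q + 1 + j))) →
    ∃ a : Finset (Fin (n + 1)) → Coch F d q, (∀ S : Finset (Fin (n + 1)), S.card ≠ p + 1 → a S = 0) ∧
      ∀ S, dC F e q (kd (muC F q h) a S) = kd (muC F (q + 1) h) b S := by
  intro k
  induction k with
  | zero =>
    intro p hp q d e h b hb _ _
    have hb0 : b = 0 := funext fun S => hb S (by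
      have := S.card_le_univ
      simp only [Fintype.card_fin] at this
      omega)
    refine ⟨0, fun _ _ => rfl, fun S => ?_⟩
    subst hb0
    simp [kd]
  | succ k ih =>
    intro p hp q d e h b hb hz hvan
    have comm : ∀ (q : ℕ) {d e : ℤ} (h : d + 1 = e) (b : Finset (Fin (n + 1)) → Coch F d q) S,
        dC F e q (kd (muC F q h) b S) = kd (muC F (q + 1) h) (fun T => dC F d q (b T)) S :=
      fun q d e h b S => kd_map _ _ (dC F d q) (dC F e q) (fun j a => dC_muC F q h j a) b S
    have h1 : ∀ S, kd (muC F (q + 2) h) (fun T => dC F d (q + 1) (b T)) S = 0 :=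
      fun S => (comm (q + 1) h b S).symm.trans (hz S)
    have hd : d - 1 + 1 = d := sub_add_cancel d 1
    obtain ⟨b2, hb2, hb2'⟩ := exists_koszul F (q + 2) hd h _ h1 (p + 1)
      (fun S hS => by rw [hb S hS, map_zero])
    obtain ⟨a2, ha2, ha2'⟩ := ih (p + 1) (by omega) (q + 1) (d - 1) d hd b2 hb2
      (fun S => by
        show dC F d (q + 2) (kd (muC F (q + 2) hd) b2 S) = 0
        rw [hb2' S]
        exact cd_cd _ _ _ _)
      (fun j => by
        have := hvan (j + 1)
        rw [show d - ((j + 1 : ℕ) : ℤ) = d - 1 - j by push_cast; ring,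
          show q + 1 + (j + 1) = q + 1 + 1 + j by omega] at this
        exact this)
    have hcoc : ∀ S, dC F d (q + 1) (b S - kd (muC F (q + 1) hd) a2 S) = 0 := fun S => by
      rw [map_sub, ha2', hb2', sub_self]
    have hH : Subsingleton (Coh.HH (CohB1.ProjSpace n R) (twF F d) (q + 1)) := by
      have := hvan 0
      rw [show d - ((0 : ℕ) : ℤ) = d by simp] at this
      exact this
    have key : ∀ S : Finset (Fin (n + 1)), ∃ t, dC F d q t = b S - kd (muC F (q + 1) hd) a2 S ∧
        (S.card ≠ p + 1 → t = 0) := fun S => by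
      by_cases hS : S.card = p + 1
      · obtain ⟨t, ht⟩ := exists_dC_eq F hF (hcoc S) hH
        exact ⟨t, ht, fun h => absurd hS h⟩
      · exact ⟨0, by rw [map_zero, hb S hS, kd_supp _ ha2 S hS, sub_self], fun _ => rfl⟩
    choose a ha using key
    refine ⟨a, fun S hS => (ha S).2 hS, fun S => ?_⟩
    rw [comm q h a S]
    have : (fun T => dC F d q (a T)) = b - kd (muC F (q + 1) hd) a2 := funext fun T => (ha T).1
    rw [this, kd_sub, kd_kd _ _ (fun j k a => muC_comm F (q + 1) hd h j k a), sub_zero]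

/-- `H^i(F(d)) = 0` if `H^{i+j}(F(d-1-j)) = 0` for all `j`. -/
theorem subsingleton_of_vanishing (hF : Coh.IsQCoh F) (d : ℤ) (q : ℕ)
    (hvan : ∀ j : ℕ, Subsingleton (Coh.HH (CohB1.ProjSpace n R) (twF F (d - 1 - j)) (q + 1 + j))) :
    Subsingleton (Coh.HH (CohB1.ProjSpace n R) (twF F d) (q + 1)) := by
  have : Coh.IsQCoh (twF F d) := isQCoh_tw F hF d
  refine subsingleton_of_forall_eq 0 fun x => ?_
  obtain ⟨c, hc, rfl⟩ := exists_toH_eq iSup_cov (fun x => affCov_mem_inter x) (good_affCov (twF F d)) x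
  have hd : d - 1 + 1 = d := sub_add_cancel d 1
  let z : Finset (Fin (n + 1)) → Coch F d (q + 1) := fun S => if S = ∅ then c else 0
  have hz0 : ∀ S : Finset (Fin (n + 1)), S.card ≠ 0 → z S = 0 := fun S hS => by
    show (if S = ∅ then c else 0) = 0
    exact if_neg (fun h => hS (by rw [h]; rfl))
  have hz1 : ∀ S, kd (muC F (q + 1) (rfl : d + 1 = d + 1)) z S = 0 := fun S => by
    refine Finset.sum_eq_zero fun j _ => ?_
    rw [hz0 _ (by simp), map_zero, smul_zero]
  obtain ⟨b, hb, hb'⟩ := exists_koszul F (q + 1) hd rfl z hz1 0 hz0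
  obtain ⟨a, -, ha⟩ := descend F hF (n + 1) 0 (by omega) q (d - 1) d hd b hb
    (fun S => by
      rw [hb' S]
      show dC F d (q + 1) (if S = ∅ then c else 0) = 0
      split_ifs
      · exact hc
      · exact map_zero _)
    hvan
  have hc' : dC F d q (kd (muC F q hd) a ∅) = c := by
    rw [ha, hb']
    exact if_pos rfl
  subst hc'
  exact toH_cd _ _ _

/-- Castelnuovo–Mumford: vanishing of `H^i(F(m-i))`, `i ≥ 1`, propagates to larger twists. -/
theorem propagate (hF : Coh.IsQCoh F) (m : ℤ)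
    (hreg : ∀ i : ℕ, 1 ≤ i → Subsingleton (Coh.HH (CohB1.ProjSpace n R) (twF F (m - i)) i)) :
    ∀ (i : ℕ) (r : ℤ), 1 ≤ i → m - i ≤ r →
      Subsingleton (Coh.HH (CohB1.ProjSpace n R) (twF F r) i) := by
  have H : ∀ (s : ℕ) (i : ℕ), 1 ≤ i →
      Subsingleton (Coh.HH (CohB1.ProjSpace n R) (twF F (m + s - i)) i) := by
    intro s
    induction s with
    | zero => simpa using hreg
    | succ s ih =>
      intro i hi
      obtain ⟨q, rfl⟩ := Nat.exists_eq_add_of_le' hi
      refine subsingleton_of_vanishing F hF _ q fun j => ?_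
      have := ih (q + 1 + j) (by omega)
      rw [show m + ((s + 1 : ℕ) : ℤ) - ((q + 1 : ℕ) : ℤ) - 1 - j = m + s - ((q + 1 + j : ℕ) : ℤ) by
        push_cast; ring]
      exact this
  intro i r hi hr
  obtain ⟨s, hs⟩ := Int.eq_ofNat_of_zero_le (show 0 ≤ r - (m - i) by omega)
  have := H s i hi
  rwa [show m + (s : ℤ) - i = r by omega] at this

end Groth.Agent.CMReg
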