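import Groth.Agent.CMReg.PolyBound
import Groth.Agent.CMReg.FieldBC
import Groth.Agent.TwistFlat.Chart
import Groth.Agent.KFlat.FlatPull
import Groth.Prelude.Def_PicLoc
import Groth.Prelude.Def_FrameBundle
import Groth.Prelude.Def_FGA
import Mathlib.FieldTheory.IsAlgClosed.AlgebraicClosure

/-!
The polynomial regularity bound over arbitrary fields.
-/

set_option autoImplicit false
set_option linter.style.haveILetI false

open CategoryTheory CategoryTheory.Limits AlgebraicGeometry TopologicalSpace Opposite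

universe u

noncomputable section

namespace Groth.Agent.CMReg

open Twist Groth.Agent.ProjTwist Groth.Agent.ProjTwist.Pn

theorem nonempty_iso_of_tens_one {X : Scheme.{u}} {L M M' : X.Modules}
    (e : CohB1.tensorMod L M ≅ Coh.structureModule X) (e' : CohB1.tensorMod L M' ≅ Coh.structureModule X) :
    Nonempty (M ≅ M') :=
  ⟨(oneTens M).symm ≪≫ tensCongr e'.symm (Iso.refl M) ≪≫ tensCongr (tensComm L M') (Iso.refl M) ≪≫
    tensAssoc M' L M ≪≫ tensCongr (Iso.refl M') e ≪≫ tensOne M'⟩

variable (n : ℕ) {A B : Type u} [CommRing A] [CommRing B] (φ : A →+* B)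

theorem nonempty_pullback_twist_int (d : ℤ) :
    Nonempty ((Scheme.Modules.pullback (ProperFin.pnMap n φ)).obj (twistProjSpace n A d) ≅
      twistProjSpace n B d) := by
  obtain ⟨c, rfl | rfl⟩ := d.eq_nat_or_neg
  · exact TwistFlat.nonempty_pullback_twist n φ c
  · let g := ProperFin.pnMap n φ
    have h1 := (nonempty_twistProjSpace_tensor n A (c : ℤ) (-(c : ℤ))).some ≪≫
      eqToIso (by rw [add_neg_cancel]; rfl) ≪≫ (twistZeroIso (CohB1.polyGrading n A)).symm
    have h2 := (nonempty_twistProjSpace_tensor n B (c : ℤ) (-(c : ℤ))).some ≪≫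
      eqToIso (by rw [add_neg_cancel]; rfl) ≪≫ (twistZeroIso (CohB1.polyGrading n B)).symm
    obtain ⟨ec⟩ := TwistFlat.nonempty_pullback_twist n φ c
    exact nonempty_iso_of_tens_one
      (tensCongr ec.symm (Iso.refl _) ≪≫ (KFlat.PullTensor.pullTensorIso g _ _).symm ≪≫
        (Scheme.Modules.pullback g).mapIso h1 ≪≫ PicLoc.pullbackStructureIso g) h2

/-- `p^*(F(d)) ≅ (p^*F)(d)` -/
def pullTwF (F : (CohB1.ProjSpace n A).Modules) (d : ℤ) :
    (Scheme.Modules.pullback (ProperFin.pnMap n φ)).obj (twF F d) ≅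
      twF ((Scheme.Modules.pullback (ProperFin.pnMap n φ)).obj F) d :=
  KFlat.PullTensor.pullTensorIso _ F (twistProjSpace n A d) ≪≫
    tensCongr (Iso.refl _) (nonempty_pullback_twist_int n φ d).some

variable {n} (k K : Type u) [Field k] [Field K] [Algebra k K]

theorem finrank_twF_baseChange (F : (CohB1.ProjSpace n k).Modules) (hF : Coh.IsCoh F) (d : ℤ) (i : ℕ) :
    Module.finrank K (Coh.HH (CohB1.ProjSpace n K)
        (twF ((Scheme.Modules.pullback (ProperFin.pnMap n (algebraMap k K))).obj F) d) i) =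
      Module.finrank k (Coh.HH (CohB1.ProjSpace n k) (twF F d) i) := by
  have : IsProper (CohB1.ProjSpace.toSpec n k) := ProjProper.Basic.isProper_toSpec n k
  exact (finrank_iso (pullTwF n (algebraMap k K) F d) i).symm.trans
    (finrank_baseChange (f := CohB1.ProjSpace.toSpec n k) _ (CohB1.ProjSpace.toSpec n K)
      (ProperFin.isPullback_pnMap n (algebraMap k K)) (twF F d) (isCoh_tw hF d) i)

theorem chi_baseChange (F : (CohB1.ProjSpace n k).Modules) (hF : Coh.IsCoh F) (d : ℤ) :
    chi ((Scheme.Modules.pullback (ProperFin.pnMap n (algebraMap k K))).obj F) d = chi F d := by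
  refine finsum_congr fun i => ?_
  rw [finrank_twF_baseChange k K F hF d i]

theorem chi_eq_eulerCharLE (F : (CohB1.ProjSpace n k).Modules) (hF : Coh.IsCoh F) (d : ℤ) :
    chi F d = FGA.eulerCharLE k (CohB1.ProjSpace n k) (twF F d) n := by
  have : IsProper (CohB1.ProjSpace n k ↘ Spec (CommRingCat.of k)) := ProjProper.Basic.isProper_toSpec n k
  exact EulerChar.euler_eq_sum k (t := n + 1) fun i hi => subsingleton_above _ (isQCoh_tw F hF.1 d) i (by omega)

/-- Mumford: the polynomial bound over any field. -/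
theorem exists_polyBound (n p : ℕ) :
    ∃ P : MvPolynomial (Fin (n + 1)) ℤ, ∀ (k : Type u) [Field k]
      (G : (CohB1.ProjSpace n k).Modules) (φ : G ⟶ FlatMod.freeMod (CohB1.ProjSpace n k) p), Mono φ →
      Coh.IsCoh G → ∀ a : Fin (n + 1) → ℤ,
        (∀ t : ℤ, chi G t = ∑ j : Fin (n + 1), a j * Ring.choose t (j : ℕ)) →
        Curv2.IsMRegular k n G (MvPolynomial.eval a P) := by
  obtain ⟨P, hP⟩ := exists_polyBound_submodule_free.{u} n p
  refine ⟨P, fun k _ G φ hφ hG a ha => ?_⟩
  let K := AlgebraicClosure k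
  let g := ProperFin.pnMap n (algebraMap k K)
  have hflat : Flat g := MorphismProperty.of_isPullback (P := @Flat)
    (ProperFin.isPullback_pnMap n (algebraMap k K)).flip
    (AlgebraicGeometry.Flat.SpecMap_iff.2 (RingHom.flat_algebraMap_iff.2 inferInstance))
  have hG' : Coh.IsCoh ((Scheme.Modules.pullback g).obj G) := ZClosLib.CohDescent.isCoh_pullback g G hG
  have hm : Mono ((Scheme.Modules.pullback g).map φ) := Functor.map_mono _ _
  have hreg := hP K _ ((Scheme.Modules.pullback g).map φ ≫ (FrB.pullbackFreeIso g p).hom) (mono_comp _ _) hG' a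
    fun t => (chi_baseChange k K G hG t).trans (ha t)
  intro i hi hin
  have h := hreg i hi hin
  have : IsProper (CohB1.ProjSpace n k ↘ Spec (CommRingCat.of k)) := ProjProper.Basic.isProper_toSpec n k
  have := EulerChar.finite_HH k (twF G (MvPolynomial.eval a P - i)) (isCoh_tw hG _) i
  refine (Module.finrank_zero_iff (R := k)).1 ?_
  rw [← finrank_twF_baseChange k K G hG]
  exact Module.finrank_zero_of_subsingleton

end Groth.Agent.CMReg
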