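import Groth.Agent.ProjTwist.Pn.Twist
import Groth.Agent.KoszTwLib.Tensor

/-!
Multiplication by the coordinates `x_j` on the twists of a module on `P^n_R`.
-/

set_option autoImplicit false

open CategoryTheory CategoryTheory.Limits AlgebraicGeometry TopologicalSpace Opposite

universe u

noncomputable section

namespace Groth.Agent.CMReg

open Twist Groth.Agent.ProjTwist Groth.Agent.ProjTwist.Pn

section Graded

variable {R' A : Type u} [CommRing R'] [CommRing A] [Algebra R' A] {𝒜 : ℕ → Submodule R' A}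
  [GradedAlgebra 𝒜]

theorem mulSec_add_left {d d' e : ℤ} (h : d + d' = e) {U : (Opens (ProjectiveSpectrum.top 𝒜))ᵒᵖ}
    (s s' : sectN (𝒜 := 𝒜) d U) (t : sectN (𝒜 := 𝒜) d' U) :
    mulSec h (s + s') t = mulSec h s t + mulSec h s' t := by
  refine sectN_ext fun x => ?_
  refine (mulSec_coe _ _ _ x).trans ?_
  show ((s.1 x).1 + (s'.1 x).1) * (t.1 x).1 = (s.1 x).1 * (t.1 x).1 + (s'.1 x).1 * (t.1 x).1
  exact add_mul _ _ _

theorem mulSec_smul_left {d d' e : ℤ} (h : d + d' = e) {U : (Opens (ProjectiveSpectrum.top 𝒜))ᵒᵖ}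
    (c : O (𝒜 := 𝒜) U) (s : sectN (𝒜 := 𝒜) d U) (t : sectN (𝒜 := 𝒜) d' U) :
    mulSec h (c • s) t = c • mulSec h s t := by
  refine sectN_ext fun x => ?_
  refine (mulSec_coe _ _ _ x).trans ?_
  refine (congrArg (· * (t.1 x).1) (smul_coe c s x)).trans ?_
  refine Eq.trans ?_ (smul_coe c _ x).symm
  exact (mul_assoc _ _ _).trans (congrArg ((c.1 x).val * ·) (mulSec_coe _ _ _ x).symm)

end Graded

variable {n : ℕ} {R : Type u} [CommRing R]

local notation "PG" => CohB1.polyGrading n R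

variable (n R) in
/-- The coordinate `x_j` as a section of `O(1)`. -/
def xSec (j : Fin (n + 1)) (U : (Opens (ProjectiveSpectrum.top PG))ᵒᵖ) :
    sectN (𝒜 := PG) ((1 : ℕ) : ℤ) U :=
  resN _ (homOfLE (le_top : U.unop ≤ ⊤)).op
    (globalOf (𝒜 := PG) (i := 1) ⟨MvPolynomial.X j, X_mem_polyGrading n R j⟩)

theorem add_one_cast {d e : ℤ} (h : d + 1 = e) : d + ((1 : ℕ) : ℤ) = e := by simpa using h

variable (n R) in
/-- `O(d) ⟶ O(d + 1)`, multiplication by `x_j`. -/
def mulX (j : Fin (n + 1)) {d e : ℤ} (h : d + 1 = e) :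
    twistProjSpace n R d ⟶ twistProjSpace n R e where
  val := PresheafOfModules.homMk
    { app := fun U => AddCommGrpCat.ofHom
        (AddMonoidHom.mk' (fun s : sectN (𝒜 := PG) d U => mulSec (add_one_cast h) s (xSec n R j U))
          fun s s' => mulSec_add_left _ s s' _)
      naturality := fun _ _ _ => rfl }
    fun U c s => mulSec_smul_left (add_one_cast h) c s _

theorem mulX_app (j : Fin (n + 1)) {d e : ℤ} (h : d + 1 = e) (U : (CohB1.ProjSpace n R).Opens)
    (s : Γ(twistProjSpace n R d, U)) :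
    (mulX n R j h).app U s = mulSec (add_one_cast h) (U := op U) s (xSec n R j (op U)) := rfl

theorem mulX_comm (j k : Fin (n + 1)) {d e e' l : ℤ} (h : d + 1 = e) (h' : e + 1 = l)
    (g : d + 1 = e') (g' : e' + 1 = l) :
    mulX n R j h ≫ mulX n R k h' = mulX n R k g ≫ mulX n R j g' := by
  refine Scheme.Modules.hom_ext _ _ fun U => ?_
  refine ConcreteCategory.hom_ext _ _ fun s => ?_
  show (mulX n R k h').app U ((mulX n R j h).app U s) = (mulX n R j g').app U ((mulX n R k g).app U s)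
  rw [mulX_app, mulX_app, mulX_app, mulX_app]
  refine sectN_ext fun x => ?_
  refine (mulSec_coe _ _ _ x).trans ((congrArg (· * _) (mulSec_coe _ _ _ x)).trans ?_)
  refine Eq.trans ?_ ((mulSec_coe _ _ _ x).trans (congrArg (· * _) (mulSec_coe _ _ _ x))).symm
  exact mul_right_comm _ _ _

variable (n R) in
/-- The standard frame `x_j ^ d` of `O(d)` over an open of `D₊(x_j)`. -/
def pw (j : Fin (n + 1)) (d : ℤ) {U : (CohB1.ProjSpace n R).Opens} (h : U ≤ stdOpen n R j) :
    Γ(twistProjSpace n R d, U) :=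
  (twistProjSpace n R d).presheaf.map (homOfLE h).op (powGen (X_mem_polyGrading n R j) d)

theorem isFrame_powGen (j : Fin (n + 1)) (d : ℤ) :
    LFFrame.IsFrame (twistProjSpace n R d) (stdOpen n R j) ![powGen (X_mem_polyGrading n R j) d] := by
  intro V hV
  have e : LFFrame.comb (twistProjSpace n R d) ![powGen (X_mem_polyGrading n R j) d] hV =
      (fun c => c • pw n R j d hV) ∘ Equiv.funUnique (Fin 1) Γ(CohB1.ProjSpace n R, V) := by
    funext a
    simp [LFFrame.comb, pw]
  rw [e]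
  exact Function.Bijective.comp (bijective_smul_unitSec (X_mem_polyGrading n R j) d (op V)
    fun x => not_mem_of_le_basicOpen hV x) (Equiv.funUnique _ _).bijective

theorem mulX_pw (j : Fin (n + 1)) {d e : ℤ} (h : d + 1 = e) {U : (CohB1.ProjSpace n R).Opens}
    (hU : U ≤ stdOpen n R j) : (mulX n R j h).app U (pw n R j d hU) = pw n R j e hU := by
  rw [mulX_app]
  refine sectN_ext fun x => ?_
  refine (mulSec_coe _ _ _ x).trans ?_
  subst h
  show (((unitAt x.1 _) ^ d : (Loc PG x.1)ˣ) : Loc PG x.1) * _ =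
    (((unitAt x.1 _) ^ (d + 1) : (Loc PG x.1)ˣ) : Loc PG x.1)
  rw [zpow_add, zpow_one, Units.val_mul, val_unitAt]
  refine congrArg (_ * ·) ?_
  exact Localization.mk_one_eq_algebraMap _

/-- `F(d) ⟶ F(d + 1)`, multiplication by `x_j`. -/
def mu (F : (CohB1.ProjSpace n R).Modules) (j : Fin (n + 1)) {d e : ℤ} (h : d + 1 = e) :
    twF F d ⟶ twF F e :=
  KoszTw.tensorMap (𝟙 F) (mulX n R j h)

theorem mu_comm (F : (CohB1.ProjSpace n R).Modules) (j k : Fin (n + 1)) {d e e' l : ℤ} (h : d + 1 = e)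
    (h' : e + 1 = l) (g : d + 1 = e') (g' : e' + 1 = l) :
    mu F j h ≫ mu F k h' = mu F k g ≫ mu F j g' := by
  rw [mu, mu, mu, mu, ← KoszTw.tensorMap_comp, ← KoszTw.tensorMap_comp, mulX_comm j k h h' g g']

theorem mu_bijective (F : (CohB1.ProjSpace n R).Modules) (j : Fin (n + 1)) {d e : ℤ} (h : d + 1 = e)
    {U : (CohB1.ProjSpace n R).Opens} (hU : U ≤ stdOpen n R j) :
    Function.Bijective ((mu F j h).app U) := by
  have b1 := KoszTwLib.tmul_bijective (isFrame_powGen (R := R) j d) F hU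
  have b2 := KoszTwLib.tmul_bijective (isFrame_powGen (R := R) j e) F hU
  refine (Function.Bijective.of_comp_iff _ b1).mp ?_
  have heq : (mu F j h).app U ∘ (fun m : Γ(F, U) => SecTwist.tmul F _ U m (pw n R j d hU)) =
      fun m : Γ(F, U) => SecTwist.tmul F _ U m (pw n R j e hU) := by
    funext m
    refine (KoszTw.tensorMap_tmul (𝟙 F) (mulX n R j h) U m _).trans ?_
    rw [mulX_pw]
    rfl
  exact (congrArg Function.Bijective heq).mpr b2

end Groth.Agent.CMReg
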