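import Groth.Agent.ProjTwist.Pn.Boundedness
import Mathlib.RingTheory.Binomial

/-!
Mumford's bound for the regularity, polynomial in a bound for the Euler characteristics.
-/

set_option autoImplicit false

open CategoryTheory CategoryTheory.Limits AlgebraicGeometry TopologicalSpace Opposite
open Groth.Agent.PullStalk.Exact

universe u

noncomputable section

namespace Groth.Agent.CMReg

open Twist Groth.Agent.ProjTwist Groth.Agent.ProjTwist.Pn

variable {n : ℕ}

variable (n) in
/-- The bound `f` works for `(c, N)`, given a bound `B` on the Euler characteristics. -/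
def PolyBounded (c N : ℕ) (f : Polynomial ℕ) : Prop :=
  ∀ (k : Type u) [Field k] [Infinite k] (A G : (CohB1.ProjSpace n k).Modules) (φ : G ⟶ A), Mono φ →
    Coh.IsCoh A → Coh.IsCoh G → Curv2.IsMRegular k n A 0 →
    (∀ t : ℕ, h0Tw A t ≤ N * (n + t).choose n) →
    topologicalKrullDim (CohB1.support A) < (c : WithBot ℕ∞) →
    ∀ B : ℕ, (∀ t : ℤ, |chi G t| ≤ (B : ℤ) * (|t| + n + 1) ^ n) → Curv2.IsMRegular k n G (f.eval B : ℕ)

theorem polyBounded_zero (N : ℕ) : PolyBounded.{u} n 0 N 0 := by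
  intro k _ _ A G φ hφ hA hG _ _ hdim B _ i hi _
  have := isLocallyNoetherian_projSpace n k
  have : IsProper (CohB1.ProjSpace n k ↘ Spec (CommRingCat.of k)) := ProjProper.Basic.isProper_toSpec n k
  have : CompactSpace (CohB1.ProjSpace n k) := EulerChar.compactSpace k
  have : IsNoetherian (CohB1.ProjSpace n k) := {}
  refine subsingleton_of_supportDim_le (isCoh_tw hG _) 0 ?_ i (by omega)
  refine (topologicalKrullDim_support_twF_le G _).trans (le_trans ?_ hdim.le)
  refine (Topology.IsEmbedding.inclusion ?_).isInducing.topologicalKrullDim_le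
  intro y hy hs
  have : Subsingleton (A.presheaf.stalk y) := hs
  exact hy (Omega.Stalks.stalkLin_injective_of_mono φ y).subsingleton

theorem abs_delta_le {f : ℤ → ℤ} {B : ℕ} (h : ∀ t, |f t| ≤ (B : ℤ) * (|t| + n + 1) ^ n) (t : ℤ) :
    |f t - f (-1 + t)| ≤ ((2 ^ (n + 1) * B : ℕ) : ℤ) * (|t| + n + 1) ^ n := by
  have h0 : (0 : ℤ) ≤ |t| + n + 1 := by positivity
  have e1 : |(-1 : ℤ) + t| + n + 1 ≤ 2 * (|t| + n + 1) := by
    have h2 := abs_add_le (-1 : ℤ) t
    have := abs_nonneg t
    simp only [abs_neg, abs_one] at h2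
    omega
  have e2 : (|(-1 : ℤ) + t| + n + 1) ^ n ≤ 2 ^ n * (|t| + n + 1) ^ n := by
    rw [← mul_pow]
    exact pow_le_pow_left₀ (by positivity) e1 n
  have hB : (0 : ℤ) ≤ B := Int.natCast_nonneg B
  have e3 : (|t| + n + 1) ^ n ≤ 2 ^ n * (|t| + n + 1) ^ n :=
    le_mul_of_one_le_left (pow_nonneg h0 n) (one_le_pow₀ (by norm_num))
  calc |f t - f (-1 + t)| ≤ |f t| + |f (-1 + t)| := abs_sub _ _
    _ ≤ B * (2 ^ n * (|t| + n + 1) ^ n) + B * (2 ^ n * (|t| + n + 1) ^ n) :=
        add_le_add ((h t).trans (mul_le_mul_of_nonneg_left e3 hB))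
          ((h _).trans (mul_le_mul_of_nonneg_left e2 hB))
    _ = ((2 ^ (n + 1) * B : ℕ) : ℤ) * (|t| + n + 1) ^ n := by push_cast; ring

theorem exists_polyBounded (c : ℕ) : ∀ N : ℕ, ∃ f : Polynomial ℕ, PolyBounded.{u} n c N f := by
  induction c with
  | zero => exact fun N => ⟨0, polyBounded_zero N⟩
  | succ c ih =>
    intro N
    obtain ⟨f, hf⟩ := ih N
    let M : Polynomial ℕ := f.comp (Polynomial.C (2 ^ (n + 1)) * Polynomial.X) + 1
    refine ⟨M + (Polynomial.C N + Polynomial.X) * (M + Polynomial.C n) ^ n, ?_⟩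
    intro k _ _ A G φ hφ hA hG hAreg hh0 hdim B hchi
    let m₁ : ℕ := M.eval B
    have hm₁ : m₁ = f.eval (2 ^ (n + 1) * B) + 1 := by simp [m₁, M]
    have := isLocallyNoetherian_projSpace n k
    let Q := cokernel φ
    have hQ : Coh.IsCoh Q := CohDev.isCoh_cokernel φ hG.1 hA
    let SA := ShortComplex.mk φ (cokernel.π φ) (cokernel.condition φ)
    have hSA : SA.ShortExact :=
      ShortComplex.ShortExact.mk' (ShortComplex.exact_cokernel φ) hφ (inferInstanceAs (Epi (cokernel.π φ)))
    obtain ⟨τ, hmono, hdrop⟩ := exists_hyperSection (fun b : Bool => bif b then A else Q)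
      (fun b => by cases b; exacts [hQ, hA])
    have hτA : Mono (τ.app A) := hmono true
    have hτQ : Mono (τ.app Q) := hmono false
    have hTφ : Mono ((twFun n k (-1)).map φ) := (shortExact_tw hSA (-1)).mono_f
    have hnat : (twFun n k (-1)).map φ ≫ τ.app A = τ.app G ≫ φ := τ.naturality φ
    have hτG : Mono (τ.app G) := by
      have h : Mono (τ.app G ≫ φ) := hnat ▸ mono_comp _ _
      exact mono_of_mono (τ.app G) φ
    let A' := cokernel (τ.app A)
    let G' := cokernel (τ.app G)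
    let φ' : G' ⟶ A' := cokernel.map (τ.app G) (τ.app A) ((twFun n k (-1)).map φ) φ hnat.symm
    have hA' : Coh.IsCoh A' := CohDev.isCoh_cokernel _ (isCoh_tw hA (-1)).1 hA
    have hG' : Coh.IsCoh G' := CohDev.isCoh_cokernel _ (isCoh_tw hG (-1)).1 hG
    let SG := ShortComplex.mk (τ.app G) (cokernel.π (τ.app G)) (cokernel.condition _)
    have hSG : SG.ShortExact :=
      ShortComplex.ShortExact.mk' (ShortComplex.exact_cokernel _) hτG
        (inferInstanceAs (Epi (cokernel.π (τ.app G))))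
    let SA' := ShortComplex.mk (τ.app A) (cokernel.π (τ.app A)) (cokernel.condition _)
    have hSA' : SA'.ShortExact :=
      ShortComplex.ShortExact.mk' (ShortComplex.exact_cokernel _) hτA
        (inferInstanceAs (Epi (cokernel.π (τ.app A))))
    have hφ' : Mono φ' := by
      refine Omega.Stalks.mono_of_stalk fun y => (injective_iff_map_eq_zero _).mpr fun z hz => ?_
      obtain ⟨a, rfl⟩ := stalk_surjective (cokernel.π (τ.app G)) y z
      have ha : stalkLin (cokernel.π (τ.app A)) y (stalkLin φ y a) = 0 := by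
        rw [← Omega.Stalks.stalkLin_comp] at hz ⊢
        rwa [cokernel.π_desc] at hz
      obtain ⟨b, hb⟩ := ((stalk_exact hSA' y).2.1 _).mp ha
      have hb0 : stalkLin (τ.app Q) y (stalkLin ((twFun n k (-1)).map (cokernel.π φ)) y b) = 0 := by
        rw [← Omega.Stalks.stalkLin_comp, show (twFun n k (-1)).map (cokernel.π φ) ≫ τ.app Q =
          τ.app A ≫ cokernel.π φ from τ.naturality (cokernel.π φ), Omega.Stalks.stalkLin_comp, hb,
          ← Omega.Stalks.stalkLin_comp, cokernel.condition]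
        exact Omega.Stalks.stalkLin_zero y a
      have hb1 := (Omega.Stalks.stalkLin_injective_of_mono (τ.app Q) y) (hb0.trans (map_zero _).symm)
      obtain ⟨b', rfl⟩ := ((stalk_exact (shortExact_tw hSA (-1)) y).2.1 b).mp hb1
      have hab : stalkLin (τ.app G) y b' = a := by
        refine Omega.Stalks.stalkLin_injective_of_mono φ y ?_
        refine Eq.trans ?_ hb
        refine (Omega.Stalks.stalkLin_comp (τ.app G) φ y b').symm.trans ?_
        refine (congrArg (fun g => stalkLin g y b') hnat.symm).trans ?_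
        exact Omega.Stalks.stalkLin_comp ((twFun n k (-1)).map φ) (τ.app A) y b'
      rw [← hab]
      refine (Omega.Stalks.stalkLin_comp (τ.app G) (cokernel.π (τ.app G)) y b').symm.trans ?_
      exact (congrArg (fun g => stalkLin g y b') (cokernel.condition _)).trans (Omega.Stalks.stalkLin_zero y b')
    have hA'reg : Curv2.IsMRegular k n A' 0 := @isMRegular_cokernel _ _ _ A hA.1 0 hAreg (τ.app A) hτA
    have hA'h0 : ∀ t : ℕ, h0Tw A' t ≤ N * (n + t).choose n := by
      intro t
      refine le_trans ?_ (hh0 t)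
      have hvan : Subsingleton (Coh.HH (CohB1.ProjSpace n k) (SA'.map (twFun n k (t : ℤ))).X₁ 1) := by
        have := subsingleton_of_le hA.1 hAreg (i := 1) le_rfl (d := -1 + (t : ℤ)) (by omega)
        exact subsingleton_of_iso (twTw A (-1) t (-1 + t) rfl).symm 1
      have := finite_hh (isCoh_tw hA (t : ℤ)) 0
      exact LinearMap.finrank_le_finrank_of_surjective
        (f := CohLin.overLin k (CohLin.hMap (SA'.map (twFun n k (t : ℤ))).g 0))
        fun x => CohLin.exists_hMap_g_eq (shortExact_tw hSA' (t : ℤ)) x (Subsingleton.elim _ _)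
    have hA'dim : topologicalKrullDim (CohB1.support A') < (c : WithBot ℕ∞) := hdrop true c hdim
    have hG'chi : ∀ t : ℤ, |chi G' t| ≤ ((2 ^ (n + 1) * B : ℕ) : ℤ) * (|t| + n + 1) ^ n := by
      intro t
      have h : chi G t = chi (twF G (-1)) t + chi G' t := chi_add hSG (isCoh_tw hG (-1)) hG hG' t
      rw [chi_tw] at h
      rw [show chi G' t = chi G t - chi G (-1 + t) by omega]
      exact abs_delta_le hchi t
    have hreg : Curv2.IsMRegular k n G' (f.eval (2 ^ (n + 1) * B) : ℕ) :=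
      hf k A' G' φ' hφ' hA' hG' hA'reg hA'h0 hA'dim _ hG'chi
    have hreg1 : Curv2.IsMRegular k n G' (m₁ : ℤ) :=
      isMRegular_of_le hG'.1 hreg (by rw [hm₁]; push_cast; linarith)
    have two : ∀ (i : ℕ) (j : ℤ), 2 ≤ i → (m₁ : ℤ) - i ≤ j →
        Subsingleton (Coh.HH (CohB1.ProjSpace n k) (twF G j) i) := fun i j hi hj =>
      extension_subsingleton (τ.app G) (cokernel.π (τ.app G)) (cokernel.condition _) hSG hG hG'.1 hreg1 i hi j hj
    have h1b : h1Tw G ((m₁ : ℤ) - 1) ≤ (N + B) * (m₁ + n) ^ n := by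
      have he : ((m₁ - 1 : ℕ) : ℤ) = (m₁ : ℤ) - 1 := by omega
      have h := chi_eq_of_vanishing (F := G) (t := (m₁ : ℤ) - 1) fun i hi => two i _ hi (by omega)
      have h0 : h0Tw G ((m₁ : ℤ) - 1) ≤ N * (m₁ + n) ^ n := by
        refine (h0Tw_le_of_mono hSA hA _).trans ?_
        rw [← he]
        refine (hh0 _).trans (Nat.mul_le_mul_left N ((Nat.choose_le_pow _ _).trans ?_))
        exact Nat.pow_le_pow_left (by omega) n
      have hc := hchi ((m₁ : ℤ) - 1)
      rw [← he, Int.natCast_nonneg (m₁ - 1) |> abs_of_nonneg,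
        show ((m₁ - 1 : ℕ) : ℤ) + n + 1 = (m₁ : ℤ) + n by omega, he] at hc
      have hq : (h1Tw G ((m₁ : ℤ) - 1) : ℤ) ≤ ((N + B) * (m₁ + n) ^ n : ℕ) := by
        have h0' : (h0Tw G ((m₁ : ℤ) - 1) : ℤ) ≤ ((N * (m₁ + n) ^ n : ℕ) : ℤ) := by exact_mod_cast h0
        have := neg_le_of_abs_le hc
        push_cast at h0' ⊢
        linarith
      exact_mod_cast hq
    have hev : (M + (Polynomial.C N + Polynomial.X) * (M + Polynomial.C n) ^ n).eval B =
        m₁ + (N + B) * (m₁ + n) ^ n := by simp [m₁]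
    obtain ⟨w, hw, hwb⟩ : ∃ w : ℕ, (M + (Polynomial.C N + Polynomial.X) * (M + Polynomial.C n) ^ n).eval B = m₁ + w ∧
        h1Tw G ((m₁ : ℤ) - 1) ≤ w := ⟨_, hev, h1b⟩
    intro i hi _
    rw [hw]
    rcases Nat.lt_or_ge i 2 with h | h
    · obtain rfl : i = 1 := by omega
      exact extension_subsingleton_one (τ.app G) (cokernel.π (τ.app G)) (cokernel.condition _) hSG hG hG'.1
        hreg1 _ (by push_cast; omega)
    · exact two i _ h (by push_cast; omega)

theorem abs_choose_le (t : ℤ) (j : ℕ) : |Ring.choose t j| ≤ (|t| + j) ^ j := by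
  have h := Ring.descPochhammer_eq_factorial_smul_choose t j
  rw [← Polynomial.eval_eq_smeval, descPochhammer_eval_eq_prod_range, nsmul_eq_mul] at h
  have h1 : |Ring.choose t j| ≤ |((j.factorial : ℕ) : ℤ) * Ring.choose t j| := by
    rw [abs_mul]
    refine le_mul_of_one_le_left (abs_nonneg _) ?_
    rw [Nat.abs_cast]
    exact_mod_cast Nat.factorial_pos j
  refine h1.trans ?_
  rw [← h, Finset.abs_prod]
  refine (Finset.prod_le_prod (fun i _ => abs_nonneg _) fun i hi => ?_).trans_eq (Finset.prod_const (|t| + (j : ℤ))) |>.trans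
    (le_of_eq (by rw [Finset.card_range]))
  refine (abs_sub t (i : ℤ)).trans ?_
  have := Finset.mem_range.1 hi
  rw [Nat.abs_cast]
  omega

theorem abs_binomPoly_le (a : Fin (n + 1) → ℤ) (t : ℤ) :
    |∑ j : Fin (n + 1), a j * Ring.choose t (j : ℕ)| ≤
      ((∑ j : Fin (n + 1), (a j).natAbs : ℕ) : ℤ) * (|t| + n + 1) ^ n := by
  refine (Finset.abs_sum_le_sum_abs _ _).trans ?_
  push_cast
  rw [Finset.sum_mul]
  refine Finset.sum_le_sum fun j _ => ?_
  rw [abs_mul]
  refine mul_le_mul_of_nonneg_left ((abs_choose_le t j).trans ?_) (abs_nonneg _)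
  have hj := j.2
  refine (pow_le_pow_left₀ (by positivity) (show |t| + (j : ℕ) ≤ |t| + n + 1 by omega) _).trans ?_
  exact pow_le_pow_right₀ (by have := abs_nonneg t; omega) (by omega)

/-- Mumford: a regularity bound polynomial in the coefficients of the Euler characteristic. -/
theorem exists_polyBound_submodule_free (n p : ℕ) :
    ∃ P : MvPolynomial (Fin (n + 1)) ℤ, ∀ (k : Type u) [Field k] [Infinite k]
      (G : (CohB1.ProjSpace n k).Modules) (φ : G ⟶ FlatMod.freeMod (CohB1.ProjSpace n k) p), Mono φ →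
      Coh.IsCoh G → ∀ a : Fin (n + 1) → ℤ,
        (∀ t : ℤ, chi G t = ∑ j : Fin (n + 1), a j * Ring.choose t (j : ℕ)) →
        Curv2.IsMRegular k n G (MvPolynomial.eval a P) := by
  obtain ⟨f, hf⟩ := exists_polyBounded.{u} (n := n) (n + 1) p
  refine ⟨((f.map (Nat.castRingHom ℤ)).aeval
    (∑ j : Fin (n + 1), (MvPolynomial.X j : MvPolynomial (Fin (n + 1)) ℤ) ^ 2)), ?_⟩
  intro k _ _ G φ hφ hG a hchi
  have := isLocallyNoetherian_projSpace n k
  let B : ℕ := ∑ j : Fin (n + 1), (a j).natAbs ^ 2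
  have hev : MvPolynomial.eval a ((f.map (Nat.castRingHom ℤ)).aeval
      (∑ j : Fin (n + 1), (MvPolynomial.X j : MvPolynomial (Fin (n + 1)) ℤ) ^ 2)) = ((f.eval B : ℕ) : ℤ) := by
    have : MvPolynomial.eval a (∑ j : Fin (n + 1), (MvPolynomial.X j : MvPolynomial (Fin (n + 1)) ℤ) ^ 2) =
        ((B : ℕ) : ℤ) := by simp [B]
    rw [Polynomial.aeval_def, Polynomial.hom_eval₂, this,
      show (MvPolynomial.eval a).comp (algebraMap ℤ (MvPolynomial (Fin (n + 1)) ℤ)) = RingHom.id ℤ from
        RingHom.ext_int _ _]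
    show (f.map (Nat.castRingHom ℤ)).eval (B : ℤ) = _
    rw [Polynomial.eval_natCast_map]
    rfl
  rw [hev]
  refine hf k _ G φ hφ (PerfTri.Bounded.isCoh_freeMod p) hG (isMRegular_free p) (fun t => (h0Tw_free p t).le)
    ?_ B fun t => ?_
  · refine lt_of_le_of_lt ?_ (by exact_mod_cast Nat.lt_succ_self n :
      ((n : ℕ) : WithBot ℕ∞) < ((n + 1 : ℕ) : WithBot ℕ∞))
    exact (Topology.IsEmbedding.subtypeVal.isInducing.topologicalKrullDim_le).trans (S10829.result k n).le
  · rw [hchi]
    refine (abs_binomPoly_le a t).trans (mul_le_mul_of_nonneg_right ?_ (by positivity))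
    exact_mod_cast Finset.sum_le_sum fun j _ => Nat.le_self_pow two_ne_zero (a j).natAbs

end Groth.Agent.CMReg
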